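import Groth.Agent.FEtGal.Galois
import Groth.Prelude.Def_PiSp

/-!
# Clopen subsets of finite étale covers and stable subsets of their fibres
-/

set_option autoImplicit false
set_option linter.style.haveILetI false
set_option backward.isDefEq.respectTransparency false
set_option backward.isDefEq.respectTransparency.types false

universe u

open CategoryTheory CategoryTheory.Limits AlgebraicGeometry

noncomputable section

namespace Groth.Agent.PiSpDesc

open Groth.Agent.FEtGal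

variable {X : Scheme.{u}}

theorem isClosedImmersion_ι {Y : Scheme.{u}} (W : Y.Opens) (hW : IsClosed (W : Set Y)) :
    IsClosedImmersion W.ι :=
  IsClosedImmersion.of_isPreimmersion W.ι (by rwa [Scheme.Opens.range_ι])

/-- the cover given by a clopen part -/
def sub (E : FEt.Cat X) (W : E.left.Opens) (hW : IsClosed (W : Set E.left)) : FEt.Cat X :=
  MorphismProperty.Over.mk ⊤ (W.ι ≫ str E)
    ⟨haveI := isClosedImmersion_ι W hW; haveI : IsFinite (str E) := inferInstance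
     inferInstanceAs (IsFinite (W.ι ≫ str E)),
     inferInstanceAs (Etale (W.ι ≫ str E))⟩

/-- its inclusion -/
def subHom (E : FEt.Cat X) (W : E.left.Opens) (hW : IsClosed (W : Set E.left)) : sub E W hW ⟶ E :=
  MorphismProperty.Over.homMk W.ι rfl

instance (E : FEt.Cat X) (W : E.left.Opens) (hW : IsClosed (W : Set E.left)) :
    IsOpenImmersion (subHom E W hW).left := inferInstanceAs (IsOpenImmersion W.ι)

variable {Ω Ω' : Type u} [Field Ω] [Field Ω']

theorem range_subHom (E : FEt.Cat X) (W : E.left.Opens) (hW : IsClosed (W : Set E.left)) :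
    Set.range (subHom E W hW).left = (W : Set E.left) := Scheme.Opens.range_ι W

/-- transformations of fibre functors preserve clopen parts -/
theorem mem_of_nat {ξ : Spec (CommRingCat.of Ω) ⟶ X} {ξ' : Spec (CommRingCat.of Ω') ⟶ X}
    (φ : FEt.fiber ξ ⟶ FEt.fiber ξ') {E : FEt.Cat X} (W : E.left.Opens) (hW : IsClosed (W : Set E.left))
    (t : FEt.fiberObj ξ E) (ht : t.1 (pt₀ Ω) ∈ W) : ((φ.app E) t).1 (pt₀ Ω') ∈ W := by
  obtain ⟨s, rfl⟩ := (exists_fmap_eq_iff ξ (subHom E W hW) t).2 (by rwa [range_subHom])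
  rw [show (φ.app E) (fmap ξ (subHom E W hW) s) = fmap ξ' (subHom E W hW) ((φ.app _) s) from
    ConcreteCategory.congr_hom (φ.naturality (subHom E W hW)) s]
  have := point_mem_range ξ' (subHom E W hW) ((φ.app _) s)
  rwa [range_subHom] at this

theorem mem_iff_of_iso {ξ : Spec (CommRingCat.of Ω) ⟶ X} {ξ' : Spec (CommRingCat.of Ω') ⟶ X}
    (φ : FEt.fiber ξ ≅ FEt.fiber ξ') {E : FEt.Cat X} (W : E.left.Opens) (hW : IsClosed (W : Set E.left))
    (t : FEt.fiberObj ξ E) : t.1 (pt₀ Ω) ∈ W ↔ ((φ.hom.app E) t).1 (pt₀ Ω') ∈ W := by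
  refine ⟨mem_of_nat φ.hom W hW t, fun h => ?_⟩
  have := mem_of_nat φ.inv W hW _ h
  rwa [show (φ.inv.app E) ((φ.hom.app E) t) = t from
    ConcreteCategory.congr_hom (φ.hom_inv_id_app E) t] at this

variable {ξ : Spec (CommRingCat.of Ω) ⟶ X}

/-- the elements mapping a subset of a fibre onto itself -/
def stab (E : FEt.Cat X) (A : Set (FEt.fiberObj ξ E)) : Subgroup (FEt.piOne X ξ) where
  carrier := {σ | ∀ a, a ∈ A ↔ (σ.hom.app E) a ∈ A}
  one_mem' := fun a => Iff.rfl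
  mul_mem' {σ τ} hσ hτ a := (hτ a).trans (hσ _)
  inv_mem' {σ} hσ a := by
    have e : (σ.hom.app E) ((σ⁻¹.hom.app E) a) = a := ConcreteCategory.congr_hom (σ.inv_hom_id_app E) a
    show a ∈ A ↔ (σ⁻¹.hom.app E) a ∈ A
    rw [hσ ((σ⁻¹.hom.app E) a), e]

/-- the closure of the subgroup generated by elements preserving a subset preserves it -/
theorem mem_stab_of_topGenerates {F : Set (FEt.piOne X ξ)} (hF : PiSp.TopGenerates F) (E : FEt.Cat X)
    (A : Set (FEt.fiberObj ξ E)) (h : F ⊆ stab E A) (σ : FEt.piOne X ξ) : σ ∈ stab E A := by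
  have hcl : IsClosed (stab E A : Set (FEt.piOne X ξ)) := by
    letI : ∀ Z : FEt.Cat X, TopologicalSpace (FEt.fiberObj ξ Z → FEt.fiberObj ξ Z) := fun _ => ⊥
    haveI : DiscreteTopology (FEt.fiberObj ξ E → FEt.fiberObj ξ E) := ⟨rfl⟩
    let evf : FEt.piOne X ξ → ∀ Z : FEt.Cat X, FEt.fiberObj ξ Z → FEt.fiberObj ξ Z := fun τ Z s => (τ.hom.app Z) s
    have hc : Continuous evf := continuous_induced_dom
    exact (isClosed_discrete {f : FEt.fiberObj ξ E → FEt.fiberObj ξ E | ∀ a, a ∈ A ↔ f a ∈ A}).preimage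
      ((continuous_apply E).comp hc)
  exact hcl.closure_subset_iff.2 ((Subgroup.closure_le _).2 h) (hF.closure_eq ▸ Set.mem_univ σ)

variable [IsAlgClosed Ω]

/-- **stable subsets of a fibre are cut out by clopen parts** over a connected base -/
theorem exists_clopen_of_stable [ConnectedSpace X] (E : FEt.Cat X) (A : Set (FEt.fiberObj ξ E))
    (hA : ∀ σ : FEt.piOne X ξ, σ ∈ stab E A) :
    ∃ (W : E.left.Opens) (_ : IsClosed (W : Set E.left)), ∀ t : FEt.fiberObj ξ E, t.1 (pt₀ Ω) ∈ W ↔ t ∈ A := by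
  haveI := galoisCategory ξ
  haveI := fiberFunctor ξ
  haveI : Finite (FEt.fiberObj ξ E) := Groth.Agent.S0294.result ξ E
  choose Y i y hy hconn hmono using fun a : A => PreGaloisCategory.fiber_in_connected_component (fibre ξ) E a.1
  have ho : ∀ a, IsOpenImmersion (i a).left := fun a => by
    haveI := hmono a; exact (mono_complement (i a)).1
  let W : E.left.Opens := ⨆ a, (i a).left.opensRange
  have hWc : (W : Set E.left) = ⋃ a, Set.range (i a).left := by simp [W]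
  have hW : IsClosed (W : Set E.left) := by
    rw [hWc]
    exact isClosed_iUnion_of_finite fun a => by
      haveI : IsFinite (i a).left := (prop_left (i a)).1
      exact (i a).left.isClosedMap.isClosed_range
  refine ⟨W, hW, fun t => ⟨fun ht => ?_, fun ht => ?_⟩⟩
  · rw [← SetLike.mem_coe, hWc, Set.mem_iUnion] at ht
    obtain ⟨a, ha⟩ := ht
    obtain ⟨s, hs⟩ := (exists_fmap_eq_iff ξ (i a) t).2 ha
    haveI := hconn a
    obtain ⟨σ, hσ⟩ := MulAction.exists_smul_eq (Aut (fibre ξ)) (y a) (s : (fibre ξ).obj (Y a))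
    let σ' : FEt.piOne X ξ := Functor.isoWhiskerRight σ FintypeCat.incl
    have e : (σ'.hom.app E) (fmap ξ (i a) (y a)) = fmap ξ (i a) ((σ'.hom.app (Y a)) (y a)) :=
      ConcreteCategory.congr_hom (σ'.hom.naturality (i a)) (y a)
    have hy' : fmap ξ (i a) (y a) = a.1 := hy a
    have hσ' : (σ'.hom.app (Y a)) (y a) = s := hσ
    rw [← hs, ← hσ', ← e, hy']
    exact (hA σ' a.1).1 a.2
  · rw [← SetLike.mem_coe, hWc]
    refine Set.mem_iUnion.2 ⟨⟨t, ht⟩, ?_⟩
    have := point_mem_range ξ (i ⟨t, ht⟩) (y ⟨t, ht⟩)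
    rwa [show fmap ξ (i ⟨t, ht⟩) (y ⟨t, ht⟩) = t from hy ⟨t, ht⟩] at this

/-- clopen parts with the same fibre agree over a connected base -/
theorem clopen_eq_of_fiber [ConnectedSpace X] (E : FEt.Cat X) {W₁ W₂ : E.left.Opens}
    (h₁ : IsClosed (W₁ : Set E.left)) (h₂ : IsClosed (W₂ : Set E.left))
    (h : ∀ t : FEt.fiberObj ξ E, t.1 (pt₀ Ω) ∈ W₁ ↔ t.1 (pt₀ Ω) ∈ W₂) : W₁ = W₂ := by
  have key : ∀ {V₁ V₂ : E.left.Opens}, IsClosed (V₁ : Set E.left) → IsClosed (V₂ : Set E.left) →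
      (∀ t : FEt.fiberObj ξ E, t.1 (pt₀ Ω) ∈ V₁ → t.1 (pt₀ Ω) ∈ V₂) → V₁ ≤ V₂ := by
    intro V₁ V₂ c₁ c₂ hh
    let V : E.left.Opens := V₁ ⊓ ⟨(V₂ : Set E.left)ᶜ, c₂.isOpen_compl⟩
    have hV : IsClosed (V : Set E.left) := c₁.inter V₂.2.isClosed_compl
    haveI := isEmpty_of_isEmpty_fiber ξ (sub E V hV) ⟨fun s => by
      have := point_mem_range ξ (subHom E V hV) s
      rw [range_subHom] at this
      exact this.2 (hh _ this.1)⟩
    intro x hx
    by_contra hx'
    exact IsEmpty.false (α := (sub E V hV).left) (⟨x, hx, hx'⟩ : V.toScheme)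
  exact le_antisymm (key h₁ h₂ fun t => (h t).1) (key h₂ h₁ fun t => (h t).2)

omit [IsAlgClosed Ω]

theorem prop_pair (P Z : FEt.Cat X) : FEt.prop (pullback.fst (str P) (str Z) ≫ str P) :=
  MorphismProperty.comp_mem _ _ _ (MorphismProperty.pullback_fst _ _ Z.prop) P.prop

/-- a finite family of points of fibres is the image of one point -/
theorem exists_common (L : List (Σ Z : FEt.Cat X, FEt.fiberObj ξ Z)) :
    ∃ (P : FEt.Cat X) (p : FEt.fiberObj ξ P), ∀ q ∈ L, ∃ f : P ⟶ q.1, fmap ξ f p = q.2 := by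
  induction L with
  | nil => exact ⟨MorphismProperty.Over.mk ⊤ (𝟙 X) ⟨inferInstance, inferInstance⟩, ⟨ξ, Category.comp_id ξ⟩,
      fun q h => by simp at h⟩
  | cons a L ih =>
    obtain ⟨P, p, hp⟩ := ih
    refine ⟨MorphismProperty.Over.mk ⊤ _ (prop_pair P a.1), ⟨pullback.lift p.1 a.2.1 (p.2.trans a.2.2.symm), ?_⟩, ?_⟩
    · refine (pullback.lift_fst_assoc _ _ _ _).trans p.2
    intro q hq
    rcases List.mem_cons.1 hq with rfl | hq
    · exact ⟨MorphismProperty.Over.homMk (pullback.snd _ _) pullback.condition.symm,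
        Subtype.ext (pullback.lift_snd _ _ _)⟩
    · obtain ⟨f, hf⟩ := hp q hq
      refine ⟨MorphismProperty.Over.homMk (pullback.fst _ _ ≫ f.left)
        (by simp only [Category.assoc, MorphismProperty.Over.w]; rfl), ?_⟩
      rw [← hf]
      exact Subtype.ext (pullback.lift_fst_assoc _ _ _ _)

/-- **criterion for topological generation** -/
theorem topGenerates_of_clopen [IsAlgClosed Ω] (F : Set (FEt.piOne X ξ))
    (H : ∀ (E : FEt.Cat X) (A : Set (FEt.fiberObj ξ E)), F ⊆ stab E A →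
      ∃ (W : E.left.Opens) (_ : IsClosed (W : Set E.left)), ∀ t : FEt.fiberObj ξ E, t.1 (pt₀ Ω) ∈ W ↔ t ∈ A) :
    PiSp.TopGenerates F := by
  classical
  letI : ∀ Z : FEt.Cat X, TopologicalSpace (FEt.fiberObj ξ Z → FEt.fiberObj ξ Z) := fun _ => ⊥
  intro σ
  rw [mem_closure_iff_nhds]
  intro N hN
  let evf : FEt.piOne X ξ → ∀ Z : FEt.Cat X, FEt.fiberObj ξ Z → FEt.fiberObj ξ Z := fun τ Z s => (τ.hom.app Z) s
  obtain ⟨M, hM, hMN⟩ := (mem_nhds_induced evf σ N).1 hN
  rw [nhds_pi, Filter.mem_pi'] at hM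
  obtain ⟨I, t, ht, htM⟩ := hM
  haveI : ∀ Z : FEt.Cat X, Finite (FEt.fiberObj ξ Z) := fun Z => Groth.Agent.S0294.result ξ Z
  let L : List (Σ Z : FEt.Cat X, FEt.fiberObj ξ Z) := I.toList.flatMap fun Z =>
    (Fintype.ofFinite (FEt.fiberObj ξ Z)).elems.toList.map fun s => ⟨Z, s⟩
  obtain ⟨P, p, hp⟩ := exists_common L
  let G : Subgroup (FEt.piOne X ξ) := Subgroup.closure F
  let A : Set (FEt.fiberObj ξ P) := {a | ∃ τ ∈ G, (τ.hom.app P) p = a}
  have hA : F ⊆ stab P A := fun γ hγ a => by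
    constructor
    · rintro ⟨τ, hτ, rfl⟩
      exact ⟨γ * τ, G.mul_mem (Subgroup.subset_closure hγ) hτ, rfl⟩
    · rintro ⟨τ, hτ, e⟩
      refine ⟨γ⁻¹ * τ, G.mul_mem (G.inv_mem (Subgroup.subset_closure hγ)) hτ, ?_⟩
      show (γ⁻¹.hom.app P) ((τ.hom.app P) p) = a
      rw [e]
      exact ConcreteCategory.congr_hom (γ.hom_inv_id_app P) a
  obtain ⟨W, hW, hWA⟩ := H P A hA
  have hp₀ : p.1 (pt₀ Ω) ∈ W := (hWA p).2 ⟨1, G.one_mem, rfl⟩
  obtain ⟨τ, hτ, e⟩ := (hWA _).1 (mem_of_nat σ.hom W hW p hp₀)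
  refine ⟨τ, hMN (htM fun Z hZ => ?_), hτ⟩
  have : evf τ Z = evf σ Z := funext fun s => by
    show (τ.hom.app Z) s = (σ.hom.app Z) s
    obtain ⟨f, hf⟩ := hp ⟨Z, s⟩ (List.mem_flatMap.2 ⟨Z, by simpa using hZ,
      List.mem_map.2 ⟨s, by simpa using (Fintype.ofFinite (FEt.fiberObj ξ Z)).complete s, rfl⟩⟩)
    have n1 : (τ.hom.app Z) (fmap ξ f p) = fmap ξ f ((τ.hom.app P) p) := ConcreteCategory.congr_hom (τ.hom.naturality f) p
    have n2 : (σ.hom.app Z) (fmap ξ f p) = fmap ξ f ((σ.hom.app P) p) := ConcreteCategory.congr_hom (σ.hom.naturality f) p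
    rw [← show fmap ξ f p = s from hf, n1, n2, e]
  show evf τ Z ∈ t Z
  rw [this]
  exact mem_of_mem_nhds (ht Z)

end Groth.Agent.PiSpDesc
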