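import Groth.Agent.PiSpDesc.Saturate
import Mathlib.AlgebraicGeometry.Noetherian
import Mathlib.AlgebraicGeometry.Morphisms.Proper

/-!
# Topological generators of the fundamental group descend along proper surjective morphisms
-/

set_option autoImplicit false
set_option linter.style.haveILetI false
set_option backward.isDefEq.respectTransparency false
set_option backward.isDefEq.respectTransparency.types false
set_option maxHeartbeats 1000000

universe u

open CategoryTheory CategoryTheory.Limits AlgebraicGeometry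

noncomputable section

namespace Groth.Agent.PiSpDesc

open Groth.Agent.FEtGal

/-- points of a pulled back cover -/
def pushEquiv {C S : Scheme.{u}} (f : C ⟶ S) {Ω : Type u} [Field Ω] {η : Spec (CommRingCat.of Ω) ⟶ C}
    {ξ : Spec (CommRingCat.of Ω) ⟶ S} (h : η ≫ f = ξ) (Y : FEt.Cat S) :
    FEt.fiberObj η ((FEt.restrict f).obj Y) ≃ FEt.fiberObj ξ Y where
  toFun s := ⟨s.1 ≫ pullback.fst (str Y) f, by
    have e : s.1 ≫ pullback.snd (str Y) f = η := s.2
    exact (Category.assoc _ _ _).trans ((congrArg (s.1 ≫ ·) pullback.condition).trans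
      (((reassoc_of% e) f).trans h))⟩
  invFun t := ⟨pullback.lift t.1 η (t.2.trans h.symm), pullback.lift_snd _ _ _⟩
  left_inv s := Subtype.ext (pullback.hom_ext (pullback.lift_fst _ _ _)
    ((pullback.lift_snd _ _ _).trans s.2.symm))
  right_inv t := Subtype.ext (pullback.lift_fst _ _ _)

/-- the fibre functor after restriction -/
def pushIso {C S : Scheme.{u}} (f : C ⟶ S) {Ω : Type u} [Field Ω] {η : Spec (CommRingCat.of Ω) ⟶ C}
    {ξ : Spec (CommRingCat.of Ω) ⟶ S} (h : η ≫ f = ξ) : FEt.restrict f ⋙ FEt.fiber η ≅ FEt.fiber ξ :=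
  NatIso.ofComponents (fun Y => (pushEquiv f h Y).toIso) fun {Y Z} a => by
    refine ConcreteCategory.hom_ext _ _ fun s => Subtype.ext ?_
    show (s.1 ≫ ((FEt.restrict f).map a).left) ≫ pullback.fst (str Z) f =
      (s.1 ≫ pullback.fst (str Y) f) ≫ a.left
    rw [Category.assoc, Category.assoc, (isPullback_restrict_map f a).w]

theorem exists_geom_point {Y : Scheme.{u}} (y : Y) : ∃ (Ω : Type u) (_ : Field Ω) (_ : IsAlgClosed Ω)
    (η : Spec (CommRingCat.of Ω) ⟶ Y), η (pt₀ Ω) = y := by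
  refine ⟨AlgebraicClosure (Y.residueField y), inferInstance, inferInstance,
    Spec.map (CommRingCat.ofHom (algebraMap (Y.residueField y) (AlgebraicClosure (Y.residueField y)))) ≫
      Y.fromSpecResidueField y, ?_⟩
  rw [Scheme.Hom.comp_apply]
  exact Scheme.fromSpecResidueField_apply _ _

theorem finite_connectedComponents (Y : Type u) [TopologicalSpace Y] [TopologicalSpace.NoetherianSpace Y] :
    Finite (_root_.ConnectedComponents Y) := by
  haveI := (TopologicalSpace.NoetherianSpace.finite_irreducibleComponents (α := Y)).to_subtype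
  have hne : ∀ Z : irreducibleComponents Y, (Z.1 : Set Y).Nonempty := fun Z => Z.2.1.nonempty
  refine Finite.of_surjective (fun Z : irreducibleComponents Y => _root_.ConnectedComponents.mk (hne Z).some) fun c => ?_
  obtain ⟨x, rfl⟩ := _root_.ConnectedComponents.surjective_coe c
  refine ⟨⟨_, irreducibleComponent_mem_irreducibleComponents x⟩, ?_⟩
  refine _root_.ConnectedComponents.coe_eq_coe'.2 ?_
  exact (isIrreducible_irreducibleComponent.isConnected.subset_connectedComponent mem_irreducibleComponent)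
    (hne ⟨_, irreducibleComponent_mem_irreducibleComponents x⟩).some_mem


set_option maxHeartbeats 4000000 in
theorem exists_topGenerates_of_proper_surjective {S S' : Scheme.{u}} [IsNoetherian S] [ConnectedSpace S]
    (g : S' ⟶ S) [IsProper g] [Surjective g]
    (hfg : ∀ (C : S'.Opens), IsClosed (C : Set S') → ConnectedSpace C → ∀ (Ω : Type u) [Field Ω] [IsAlgClosed Ω]
      (η : Spec (CommRingCat.of Ω) ⟶ (C : Scheme.{u})),
      ∃ F : Finset (FEt.piOne (C : Scheme.{u}) η), PiSp.TopGenerates (F : Set (FEt.piOne (C : Scheme.{u}) η)))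
    {Ω : Type u} [Field Ω] [IsAlgClosed Ω] (ξ : Spec (CommRingCat.of Ω) ⟶ S) :
    ∃ F : Finset (FEt.piOne S ξ), PiSp.TopGenerates (F : Set (FEt.piOne S ξ)) := by
  classical
  let R := pullback g g
  haveI : IsLocallyNoetherian S' := LocallyOfFiniteType.isLocallyNoetherian g
  haveI : CompactSpace S' := QuasiCompact.compactSpace_of_compactSpace g
  haveI : IsNoetherian S' := {}
  haveI : IsLocallyNoetherian R := LocallyOfFiniteType.isLocallyNoetherian (pullback.fst g g)
  haveI : CompactSpace R := QuasiCompact.compactSpace_of_compactSpace (pullback.fst g g)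
  haveI : IsNoetherian R := {}
  haveI : Finite (_root_.ConnectedComponents S') := finite_connectedComponents S'
  haveI : Finite (_root_.ConnectedComponents R) := finite_connectedComponents R
  haveI : ∀ c, ConnectedSpace (comp S' c).toScheme := connectedSpace_comp S'
  haveI : ∀ c, ConnectedSpace (comp R c).toScheme := connectedSpace_comp R
  -- base points
  have hpt : ∀ c : _root_.ConnectedComponents S', ∃ (Ω' : Type u) (_ : Field Ω') (_ : IsAlgClosed Ω')
      (η : Spec (CommRingCat.of Ω') ⟶ (comp S' c).toScheme), True := fun c => by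
    obtain ⟨Ω', h₁, h₂, η, -⟩ := exists_geom_point (Classical.arbitrary (comp S' c).toScheme)
    exact ⟨Ω', h₁, h₂, η, trivial⟩
  choose Ωc instF instA η _unused using hpt
  haveI := instA
  choose Fc hFc using fun c => hfg (comp S' c) (isClosed_comp S' c) (connectedSpace_comp S' c) (Ωc c) (η c)
  let j : ∀ c, (comp S' c).toScheme ⟶ S := fun c => (comp S' c).ι ≫ g
  let γ := fun c => (nonempty_fiber_iso ξ (η c ≫ j c)).some
  let push : ∀ c, FEt.piOne (comp S' c).toScheme (η c) → FEt.piOne S ξ := fun c σ =>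
    γ c ≪≫ ((pushIso (j c) rfl).symm ≪≫ Functor.isoWhiskerLeft (FEt.restrict (j c)) σ ≪≫ pushIso (j c) rfl) ≪≫
      (γ c).symm
  -- points of the components of the fibre product
  have hptR : ∀ c : _root_.ConnectedComponents R, ∃ (Ω' : Type u) (_ : Field Ω') (_ : IsAlgClosed Ω')
      (δ : Spec (CommRingCat.of Ω') ⟶ (comp R c).toScheme), True := fun c => by
    obtain ⟨Ω', h₁, h₂, δ, -⟩ := exists_geom_point (Classical.arbitrary (comp R c).toScheme)
    exact ⟨Ω', h₁, h₂, δ, trivial⟩
  choose ΩR instFR instAR δ _unused' using hptR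
  haveI := instAR
  let h : ∀ c, (comp R c).toScheme ⟶ S := fun c => (comp R c).ι ≫ pullback.fst g g ≫ g
  choose a₁ δ₁ hδ₁ using fun c => exists_lift_comp S' (δ c ≫ (comp R c).ι ≫ pullback.fst g g)
  choose a₂ δ₂ hδ₂ using fun c => exists_lift_comp S' (δ c ≫ (comp R c).ι ≫ pullback.snd g g)
  let ε₁ := fun c => (nonempty_fiber_iso (η (a₁ c)) (δ₁ c)).some
  let ε₂ := fun c => (nonempty_fiber_iso (η (a₂ c)) (δ₂ c)).some
  have e₁ : ∀ c, δ₁ c ≫ j (a₁ c) = δ c ≫ h c := fun c => by
    simp only [j, h, ← Category.assoc]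
    exact congrArg (· ≫ g) ((hδ₁ c).trans (Category.assoc _ _ _).symm)
  have e₂ : ∀ c, δ₂ c ≫ j (a₂ c) = δ c ≫ h c := fun c => by
    simp only [j, h, ← Category.assoc]
    rw [hδ₂ c]
    simp only [Category.assoc, pullback.condition]
  let P₁ : ∀ c, FEt.fiber ξ ≅ FEt.fiber (δ c ≫ h c) := fun c =>
    γ (a₁ c) ≪≫ (pushIso (j (a₁ c)) rfl).symm ≪≫ Functor.isoWhiskerLeft (FEt.restrict (j (a₁ c))) (ε₁ c) ≪≫
      pushIso (j (a₁ c)) (e₁ c)
  let P₂ : ∀ c, FEt.fiber ξ ≅ FEt.fiber (δ c ≫ h c) := fun c =>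
    γ (a₂ c) ≪≫ (pushIso (j (a₂ c)) rfl).symm ≪≫ Functor.isoWhiskerLeft (FEt.restrict (j (a₂ c))) (ε₂ c) ≪≫
      pushIso (j (a₂ c)) (e₂ c)
  haveI : Fintype (_root_.ConnectedComponents S') := Fintype.ofFinite _
  haveI : Fintype (_root_.ConnectedComponents R) := Fintype.ofFinite _
  let F : Finset (FEt.piOne S ξ) :=
    (Finset.univ.biUnion fun c => (Fc c).image (push c)) ∪ Finset.univ.image fun c => P₁ c ≪≫ (P₂ c).symm
  refine ⟨F, topGenerates_of_clopen _ fun E A hA => ?_⟩
  -- the clopen parts over the components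
  let t₀ : ∀ c, FEt.fiberObj ξ E → FEt.fiberObj (η c) ((FEt.restrict (j c)).obj E) := fun c t =>
    (pushEquiv (j c) rfl E).symm (((γ c).hom.app E) t)
  have hWc : ∀ c, ∃ (W : ((FEt.restrict (j c)).obj E).left.Opens) (_ : IsClosed (W : Set ((FEt.restrict (j c)).obj E).left)),
      ∀ t : FEt.fiberObj ξ E, (t₀ c t).1 (pt₀ _) ∈ W ↔ t ∈ A := fun c => by
    let B : Set (FEt.fiberObj (η c) ((FEt.restrict (j c)).obj E)) := {r | ((γ c).inv.app E) (pushEquiv (j c) rfl E r) ∈ A}
    have hB : ∀ σ, σ ∈ stab ((FEt.restrict (j c)).obj E) B := by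
      refine mem_stab_of_topGenerates (hFc c) _ B fun σ hσ r => ?_
      have hm : push c σ ∈ stab E A := hA (Finset.mem_union_left _
        (Finset.mem_biUnion.2 ⟨c, Finset.mem_univ _, Finset.mem_image_of_mem _ hσ⟩))
      have key : ((push c σ).hom.app E) (((γ c).inv.app E) (pushEquiv (j c) rfl E r)) =
          ((γ c).inv.app E) (pushEquiv (j c) rfl E ((σ.hom.app _) r)) := by
        show ((γ c).inv.app E) (pushEquiv (j c) rfl E ((σ.hom.app _) ((pushEquiv (j c) rfl E).symm
          (((γ c).hom.app E) (((γ c).inv.app E) (pushEquiv (j c) rfl E r)))))) = _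
        rw [show ((γ c).hom.app E) (((γ c).inv.app E) (pushEquiv (j c) rfl E r)) = pushEquiv (j c) rfl E r from
          ConcreteCategory.congr_hom ((γ c).inv_hom_id_app E) _, Equiv.symm_apply_apply]
      exact (hm _).trans (Iff.of_eq (congrArg (fun x : FEt.fiberObj ξ E => x ∈ A) key))
    obtain ⟨W, hW, hWB⟩ := exists_clopen_of_stable _ B hB
    refine ⟨W, hW, fun t => (hWB (t₀ c t)).trans (Iff.of_eq (congrArg (fun x : FEt.fiberObj ξ E => x ∈ A) ?_))⟩
    show ((γ c).inv.app E) (pushEquiv (j c) rfl E ((pushEquiv (j c) rfl E).symm (((γ c).hom.app E) t))) = t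
    rw [Equiv.apply_symm_apply]
    exact ConcreteCategory.congr_hom ((γ c).hom_inv_id_app E) t
  choose Wc hWcc hWcA using hWc
  let E' := pullback (str E) g
  let m : ∀ c, ((FEt.restrict (j c)).obj E).left ⟶ E' := fun c =>
    pullback.map (str E) (j c) (str E) g (𝟙 _) (comp S' c).ι (𝟙 _) (by simp) (by simp [j])
  have hmo : ∀ c, IsOpenImmersion (m c) := fun c => inferInstanceAs (IsOpenImmersion (pullback.map _ _ _ _ _ _ _ _ _))
  have hmc : ∀ c, IsClosedImmersion (m c) := fun c => by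
    haveI := isClosedImmersion_ι (comp S' c) (isClosed_comp S' c)
    exact MorphismProperty.pullbackMap (P := @IsClosedImmersion) inferInstance inferInstance
      (Category.id_comp _).symm (show j c = (comp S' c).ι ≫ g from rfl)
  let W' : Set E' := ⋃ c, m c '' (Wc c : Set _)
  have hW'o : IsOpen W' := isOpen_iUnion fun c => (hmo c).base_open.isOpenMap _ (Wc c).2
  have hW'c : IsClosed W' := isClosed_iUnion_of_finite fun c =>
    haveI := hmc c
    (m c).isClosedEmbedding.isClosedMap _ (hWcc c)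
  have hms : ∀ c (r : ((FEt.restrict (j c)).obj E).left), _root_.ConnectedComponents.mk (pullback.snd (str E) g (m c r)) = c := by
    intro c r
    rw [← Scheme.Hom.comp_apply, show m c ≫ pullback.snd (str E) g = pullback.snd (str E) (j c) ≫ (comp S' c).ι from
      pullback.lift_snd _ _ _, Scheme.Hom.comp_apply]
    exact ((pullback.snd (str E) (j c)) r).2
  have hmem : ∀ c r, m c r ∈ W' ↔ r ∈ Wc c := fun c r => by
    refine ⟨fun hr => ?_, fun hr => Set.mem_iUnion.2 ⟨c, r, hr, rfl⟩⟩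
    obtain ⟨d, r', hr', e⟩ := Set.mem_iUnion.1 hr
    obtain rfl : d = c := by rw [← hms d r', e, hms c r]
    haveI := hmo d
    rwa [← (m d).isOpenEmbedding.injective e]
  -- moving along paths inside a component
  have hpath : ∀ (c : _root_.ConnectedComponents S') {K : Type u} [Field K] [IsAlgClosed K]
      (y : Spec (CommRingCat.of K) ⟶ (comp S' c).toScheme) {ξ' : Spec (CommRingCat.of K) ⟶ S} (e : y ≫ j c = ξ')
      (φ : FEt.fiber (η c) ≅ FEt.fiber y) (Q : FEt.fiber ξ ≅ FEt.fiber ξ'),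
      Q = γ c ≪≫ (pushIso (j c) rfl).symm ≪≫
        Functor.isoWhiskerLeft (FEt.restrict (j c)) φ ≪≫ pushIso (j c) e →
      ∀ (z : Spec (CommRingCat.of K) ⟶ E') (t : FEt.fiberObj ξ E),
      z ≫ pullback.fst (str E) g = ((Q.hom.app E) t).1 →
      z ≫ pullback.snd (str E) g = y ≫ (comp S' c).ι → (z (pt₀ K) ∈ W' ↔ t ∈ A) := by
    intro c K _ _ y ξ' e φ Q hQ z t hz₁ hz₂
    subst hQ
    let r := (φ.hom.app ((FEt.restrict (j c)).obj E)) (t₀ c t)
    have hzr : z = r.1 ≫ m c := by
      apply pullback.hom_ext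
      · rw [hz₁, Category.assoc, pullback.lift_fst, Category.comp_id]
        rfl
      · rw [hz₂, Category.assoc, pullback.lift_snd]
        exact ((congrArg (· ≫ (comp S' c).ι) r.2).symm.trans (Category.assoc _ _ _))
    rw [hzr, Scheme.Hom.comp_apply, hmem]
    exact (mem_iff_of_iso φ (Wc c) (hWcc c) (t₀ c t)).symm.trans (hWcA c t)
  -- saturation
  have hsat := saturated_of_components g E W' hW'o hW'c fun D => ⟨ΩR D, instFR D, instAR D, δ D,
    fun z₁ z₂ hf hs₁ hs₂ => by
      let v : FEt.fiberObj (δ D ≫ h D) E := ⟨z₁ ≫ pullback.fst (str E) g, by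
        rw [Category.assoc, pullback.condition, reassoc_of% hs₁]⟩
      obtain ⟨Q₁, hQ₁⟩ : ∃ Q, Q = P₁ D := ⟨_, rfl⟩
      obtain ⟨Q₂, hQ₂⟩ : ∃ Q, Q = P₂ D := ⟨_, rfl⟩
      have hd : Q₁ ≪≫ Q₂.symm ∈ stab E A := by
        rw [hQ₁, hQ₂]
        exact hA (Finset.mem_union_right _ (Finset.mem_image_of_mem _ (Finset.mem_univ _)))
      have hv₁ : (Q₁.hom.app E) ((Q₁.inv.app E) v) = v := ConcreteCategory.congr_hom (Q₁.inv_hom_id_app E) v
      have hv₂ : (Q₂.hom.app E) ((Q₂.inv.app E) v) = v := ConcreteCategory.congr_hom (Q₂.inv_hom_id_app E) v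
      have k₁ := hpath (a₁ D) (δ₁ D) (e₁ D) (ε₁ D) Q₁ hQ₁ z₁ ((Q₁.inv.app E) v)
        (congrArg Subtype.val hv₁).symm (hs₁.trans (hδ₁ D).symm)
      have k₂ := hpath (a₂ D) (δ₂ D) (e₂ D) (ε₂ D) Q₂ hQ₂ z₂ ((Q₂.inv.app E) v)
        (hf.symm.trans (congrArg Subtype.val hv₂).symm) (hs₂.trans (hδ₂ D).symm)
      have k₃ : (Q₁.inv.app E) v ∈ A ↔ (Q₂.inv.app E) v ∈ A :=
        (hd _).trans (Iff.of_eq (congrArg (fun x : FEt.fiberObj ξ E => x ∈ A) (congrArg (fun x => (Q₂.inv.app E) x) hv₁)))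
      exact k₁.trans (k₃.trans k₂.symm)⟩
  -- descending
  let π := pullback.fst (str E) g
  haveI : Surjective π := inferInstance
  haveI : IsProper π := inferInstance
  have hpre : π ⁻¹' (π '' W') = W' :=
    Set.Subset.antisymm (fun z ⟨z', hz', e⟩ => hsat z' z e hz') (Set.subset_preimage_image _ _)
  have hWo : IsOpen (π '' W') :=
    (π.isClosedMap.isQuotientMap π.continuous π.surjective).isOpen_preimage.mp (hpre.symm ▸ hW'o)
  have hWcl : IsClosed (π '' W') := π.isClosedMap _ hW'c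
  refine ⟨⟨_, hWo⟩, hWcl, fun t => ?_⟩
  obtain ⟨x, hx⟩ := g.surjective (ξ (pt₀ Ω))
  let c := _root_.ConnectedComponents.mk x
  let v := ((γ c).hom.app E) t
  let z : Spec (CommRingCat.of (Ωc c)) ⟶ E' := pullback.lift v.1 (η c ≫ (comp S' c).ι)
    (v.2.trans (Category.assoc _ _ _).symm)
  rw [mem_iff_of_iso (γ c) ⟨_, hWo⟩ hWcl t]
  show v.1 (pt₀ _) ∈ π '' W' ↔ t ∈ A
  rw [show v.1 = z ≫ π from (pullback.lift_fst _ _ _).symm, Scheme.Hom.comp_apply]
  show z (pt₀ _) ∈ π ⁻¹' (π '' W') ↔ t ∈ A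
  rw [hpre]
  refine hpath c (η c) rfl (Iso.refl _) _ rfl z t ?_ (pullback.lift_snd _ _ _)
  refine (pullback.lift_fst _ _ _).trans ?_
  exact (congrArg Subtype.val (Equiv.apply_symm_apply (pushEquiv (j c) rfl E) v)).symm

end Groth.Agent.PiSpDesc
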