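import Groth.Agent.PiSpDesc.Basic
import Mathlib.AlgebraicGeometry.Noetherian
import Mathlib.AlgebraicGeometry.Morphisms.Proper

/-!
# Connected components and saturation of clopen subsets of a pulled back cover
-/

set_option autoImplicit false
set_option linter.style.haveILetI false
set_option backward.isDefEq.respectTransparency false
set_option backward.isDefEq.respectTransparency.types false
set_option maxHeartbeats 1000000

universe u

open CategoryTheory CategoryTheory.Limits AlgebraicGeometry

noncomputable section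

namespace Groth.Agent.PiSpDesc

open Groth.Agent.FEtGal

section Components

variable (Y : Scheme.{u}) [Finite (_root_.ConnectedComponents Y)]

instance : DiscreteTopology (_root_.ConnectedComponents Y) :=
  discreteTopology_iff_forall_isClosed.mpr fun s => s.toFinite.isClosed

/-- a connected component as an open subscheme -/
def comp (c : _root_.ConnectedComponents Y) : Y.Opens :=
  ⟨_root_.ConnectedComponents.mk ⁻¹' {c}, (isOpen_discrete _).preimage _root_.ConnectedComponents.continuous_coe⟩

theorem isClosed_comp (c : _root_.ConnectedComponents Y) : IsClosed (comp Y c : Set Y) :=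
  (isClosed_discrete ({c} : Set (_root_.ConnectedComponents Y))).preimage _root_.ConnectedComponents.continuous_coe

theorem connectedSpace_comp (c : _root_.ConnectedComponents Y) : ConnectedSpace (comp Y c).toScheme := by
  obtain ⟨x, rfl⟩ := _root_.ConnectedComponents.surjective_coe c
  refine isConnected_iff_connectedSpace.1 ?_
  show _root_.IsConnected (_root_.ConnectedComponents.mk ⁻¹' {_root_.ConnectedComponents.mk x})
  rw [connectedComponents_preimage_singleton]
  exact isConnected_connectedComponent

theorem mem_comp_iff (c : _root_.ConnectedComponents Y) (x : Y) : x ∈ comp Y c ↔ _root_.ConnectedComponents.mk x = c := Iff.rfl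

theorem exists_lift_comp {Ω : Type u} [Field Ω] (y : Spec (CommRingCat.of Ω) ⟶ Y) :
    ∃ (c : _root_.ConnectedComponents Y) (y' : Spec (CommRingCat.of Ω) ⟶ (comp Y c).toScheme), y' ≫ (comp Y c).ι = y :=
  ⟨_root_.ConnectedComponents.mk (y (pt₀ Ω)), IsOpenImmersion.lift _ y (by
    rw [range_point, Scheme.Opens.range_ι]
    exact Set.singleton_subset_iff.2 rfl), IsOpenImmersion.lift_fac _ _ _⟩

end Components

/-- **a clopen subset of a pulled back cover is saturated** if it is so over one geometric point of each
component of the fibre product -/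
theorem saturated_of_components {S S' : Scheme.{u}} (g : S' ⟶ S)
    [Finite (_root_.ConnectedComponents (pullback g g : Scheme.{u}))] (E : FEt.Cat S)
    (W' : Set (pullback (str E) g : Scheme.{u})) (ho : IsOpen W') (hc : IsClosed W')
    (H : ∀ D : _root_.ConnectedComponents (pullback g g : Scheme.{u}), ∃ (K : Type u) (_ : Field K) (_ : IsAlgClosed K)
      (δ : Spec (CommRingCat.of K) ⟶ (comp (pullback g g : Scheme.{u}) D).toScheme),
      ∀ z₁ z₂ : Spec (CommRingCat.of K) ⟶ pullback (str E) g,
        z₁ ≫ pullback.fst (str E) g = z₂ ≫ pullback.fst (str E) g →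
        z₁ ≫ pullback.snd (str E) g = δ ≫ (comp (pullback g g : Scheme.{u}) D).ι ≫ pullback.fst g g →
        z₂ ≫ pullback.snd (str E) g = δ ≫ (comp (pullback g g : Scheme.{u}) D).ι ≫ pullback.snd g g →
        (z₁ (pt₀ K) ∈ W' ↔ z₂ (pt₀ K) ∈ W'))
    (z₁ z₂ : (pullback (str E) g : Scheme.{u})) (hz : pullback.fst (str E) g z₁ = pullback.fst (str E) g z₂)
    (hz₁ : z₁ ∈ W') : z₂ ∈ W' := by
  obtain ⟨w, hw₁, hw₂⟩ := Scheme.Pullback.exists_preimage_pullback (f := pullback.fst (str E) g)
    (g := pullback.fst (str E) g) z₁ z₂ hz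
  let P := pullback (pullback.fst (str E) g) (pullback.fst (str E) g)
  let ρ : P ⟶ pullback g g := pullback.lift (pullback.fst _ _ ≫ pullback.snd (str E) g)
    (pullback.snd _ _ ≫ pullback.snd (str E) g) (by
      simp only [Category.assoc, ← pullback.condition, pullback.condition_assoc])
  have hρ₁ : ρ ≫ pullback.fst g g = pullback.fst _ _ ≫ pullback.snd (str E) g := pullback.lift_fst _ _ _
  have hρ₂ : ρ ≫ pullback.snd g g = pullback.snd _ _ ≫ pullback.snd (str E) g := pullback.lift_snd _ _ _
  let k := P.fromSpecResidueField w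
  let D := _root_.ConnectedComponents.mk (ρ w)
  obtain ⟨K, instK, instAK, δ, hδ⟩ := H D
  haveI : ConnectedSpace (comp (pullback g g : Scheme.{u}) D).toScheme := connectedSpace_comp _ _
  let ι := (comp (pullback g g : Scheme.{u}) D).ι
  let kD := IsOpenImmersion.lift ι (k ≫ ρ) (by
    rw [Scheme.Opens.range_ι]
    rintro _ ⟨x, rfl⟩
    rw [Scheme.Hom.comp_apply, Scheme.fromSpecResidueField_apply]
    rfl)
  have hkD : kD ≫ ι = k ≫ ρ := IsOpenImmersion.lift_fac _ _ _
  let h := ι ≫ pullback.fst g g ≫ g
  let ED := (FEt.restrict h).obj E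
  let q₁ : ED.left ⟶ pullback (str E) g := pullback.lift (pullback.fst (str E) h)
    (pullback.snd (str E) h ≫ ι ≫ pullback.fst g g)
    (by simp only [Category.assoc]; exact pullback.condition)
  let q₂ : ED.left ⟶ pullback (str E) g := pullback.lift (pullback.fst (str E) h)
    (pullback.snd (str E) h ≫ ι ≫ pullback.snd g g)
    (by simp only [Category.assoc, ← pullback.condition]; exact pullback.condition)
  have ws : (k ≫ pullback.fst _ _ ≫ pullback.fst (str E) g) ≫ str E = kD ≫ h := by
    calc (k ≫ pullback.fst _ _ ≫ pullback.fst (str E) g) ≫ str E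
        = (k ≫ pullback.fst _ _ ≫ pullback.snd (str E) g) ≫ g := by
          simp only [Category.assoc]
          rw [pullback.condition (f := str E) (g := g)]
      _ = (k ≫ ρ ≫ pullback.fst g g) ≫ g := by rw [hρ₁]
      _ = kD ≫ h := by simp only [h, Category.assoc, reassoc_of% hkD]
  let s : Spec (P.residueField w) ⟶ ED.left := pullback.lift _ kD ws
  have hs₁ : s ≫ q₁ = k ≫ pullback.fst _ _ := by
    apply pullback.hom_ext
    · exact (Category.assoc _ _ _).trans ((congrArg (s ≫ ·) (pullback.lift_fst _ _ _)).trans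
        ((pullback.lift_fst _ _ _).trans (Category.assoc _ _ _).symm))
    · refine (Category.assoc _ _ _).trans ((congrArg (s ≫ ·) (pullback.lift_snd _ _ _)).trans ?_)
      rw [show s ≫ pullback.snd (str E) h ≫ ι ≫ pullback.fst g g = kD ≫ ι ≫ pullback.fst g g from
        pullback.lift_snd_assoc _ _ _ _, reassoc_of% hkD, hρ₁, Category.assoc]
  have hs₂ : s ≫ q₂ = k ≫ pullback.snd _ _ := by
    apply pullback.hom_ext
    · refine (Category.assoc _ _ _).trans ((congrArg (s ≫ ·) (pullback.lift_fst _ _ _)).trans
        ((pullback.lift_fst _ _ _).trans ?_))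
      rw [Category.assoc, pullback.condition]
    · refine (Category.assoc _ _ _).trans ((congrArg (s ≫ ·) (pullback.lift_snd _ _ _)).trans ?_)
      rw [show s ≫ pullback.snd (str E) h ≫ ι ≫ pullback.snd g g = kD ≫ ι ≫ pullback.snd g g from
        pullback.lift_snd_assoc _ _ _ _, reassoc_of% hkD, hρ₂, Category.assoc]
  have hV : q₁ ⁻¹ᵁ (⟨W', ho⟩ : (pullback (str E) g : Scheme.{u}).Opens) = q₂ ⁻¹ᵁ ⟨W', ho⟩ :=
    clopen_eq_of_fiber (ξ := δ) ED (hc.preimage q₁.continuous) (hc.preimage q₂.continuous) fun u => by
      have hu : u.1 ≫ pullback.snd (str E) h = δ := u.2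
      have := hδ (u.1 ≫ q₁) (u.1 ≫ q₂)
        (by rw [Category.assoc, Category.assoc, pullback.lift_fst, pullback.lift_fst])
        (by rw [Category.assoc, pullback.lift_snd, reassoc_of% hu])
        (by rw [Category.assoc, pullback.lift_snd, reassoc_of% hu])
      rw [Scheme.Hom.comp_apply, Scheme.Hom.comp_apply] at this
      exact this
  have hin : s (IsLocalRing.closedPoint _) ∈ q₁ ⁻¹ᵁ (⟨W', ho⟩ : (pullback (str E) g : Scheme.{u}).Opens) := by
    show q₁ (s _) ∈ W'
    rw [← Scheme.Hom.comp_apply, hs₁, Scheme.Hom.comp_apply, Scheme.fromSpecResidueField_apply, hw₁]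
    exact hz₁
  rw [hV] at hin
  change q₂ (s _) ∈ W' at hin
  rwa [← Scheme.Hom.comp_apply, hs₂, Scheme.Hom.comp_apply, Scheme.fromSpecResidueField_apply, hw₂] at hin

end Groth.Agent.PiSpDesc
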